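import Cfsg.Agent.Helper19.FH.Defs

/-!
# Feit–Higman (S1142), part B: generic lemmas for the assembly
-/

set_option autoImplicit false

namespace Cfsg.Agent.Helper19.FH

open Matrix

/-- monoid homomorphisms commute with alternating products -/
theorem map_alt {M N F : Type*} [Monoid M] [Monoid N] [FunLike F M N] [MonoidHomClass F M N]
    (φ : F) (a b : M) (k : ℕ) : φ (alt a b k) = alt (φ a) (φ b) k := by
  induction k generalizing a b with
  | zero => simp
  | succ k ih => rw [alt_succ, alt_succ, map_mul, ih]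

/-- alternating products of commuting reals -/
theorem alt_real' (x y : ℝ) (k : ℕ) : alt x y k = wt x y k := by
  induction k generalizing x y with
  | zero => simp [wt]
  | succ k ih =>
    rw [alt_succ, ih]
    unfold wt
    rcases Nat.even_or_odd' k with ⟨m, rfl | rfl⟩
    · have e1 : (2 * m + 1) / 2 = m := by omega
      have e2 : (2 * m) / 2 = m := by omega
      have e3 : (2 * m + 1 + 1) / 2 = m + 1 := by omega
      rw [e1, e2, e3]
      ring
    · have e1 : (2 * m + 1 + 1) / 2 = m + 1 := by omega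
      have e2 : (2 * m + 1) / 2 = m := by omega
      have e3 : (2 * m + 1 + 1 + 1) / 2 = m + 1 := by omega
      rw [e1, e2, e3]
      ring

/-- the action of an alternating product on a common eigenvector -/
theorem alt_mulVec' {X : Type*} [Fintype X] [DecidableEq X] (T₁ T₂ : Matrix X X ℝ) (v : X → ℝ)
    (x y : ℝ) (h₁ : T₁.mulVec v = x • v) (h₂ : T₂.mulVec v = y • v) (k : ℕ) :
    (alt T₁ T₂ k).mulVec v = alt x y k • v := by
  induction k generalizing T₁ T₂ x y with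
  | zero => simp
  | succ k ih =>
    rw [alt_succ, alt_succ, ← Matrix.mulVec_mulVec, ih T₂ T₁ y x h₂ h₁, Matrix.mulVec_smul, h₁,
      smul_smul, mul_comm]

/-- alternating products of `1 × 1` matrices -/
theorem alt_one_by_one (x y : ℝ) (k : ℕ) :
    alt (!![x] : Matrix (Fin 1) (Fin 1) ℝ) !![y] k = !![alt x y k] := by
  induction k generalizing x y with
  | zero =>
    ext i j
    fin_cases i; fin_cases j
    simp
  | succ k ih =>
    rw [alt_succ, alt_succ, ih]
    ext i j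
    fin_cases i; fin_cases j
    simp [Matrix.mul_apply]

theorem trace_alt_one_by_one (x y : ℝ) (k : ℕ) :
    Matrix.trace (alt (!![x] : Matrix (Fin 1) (Fin 1) ℝ) !![y] k) = alt x y k := by
  rw [alt_one_by_one]
  simp [Matrix.trace]

/-! ### trace functionals on the free algebra -/

/-- the trace functional of a pair of matrices on the free algebra on two generators -/
noncomputable def trFun {ι : Type*} [Fintype ι] [DecidableEq ι] (M₁ M₂ : Matrix ι ι ℝ) :
    FreeAlgebra ℝ (Fin 2) →ₗ[ℝ] ℝ :=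
  (Matrix.traceLinearMap ι ℝ ℝ).comp (FreeAlgebra.lift ℝ ![M₁, M₂]).toLinearMap

theorem trFun_apply {ι : Type*} [Fintype ι] [DecidableEq ι] (M₁ M₂ : Matrix ι ι ℝ)
    (x : FreeAlgebra ℝ (Fin 2)) :
    trFun M₁ M₂ x = Matrix.trace (FreeAlgebra.lift ℝ ![M₁, M₂] x) := rfl

theorem trFun_comm {ι : Type*} [Fintype ι] [DecidableEq ι] (M₁ M₂ : Matrix ι ι ℝ)
    (x y : FreeAlgebra ℝ (Fin 2)) : trFun M₁ M₂ (x * y) = trFun M₁ M₂ (y * x) := by
  rw [trFun_apply, trFun_apply, map_mul, map_mul, Matrix.trace_mul_comm]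

theorem lift_gen {ι : Type*} [Fintype ι] [DecidableEq ι] (M₁ M₂ : Matrix ι ι ℝ) (i : Fin 2) :
    FreeAlgebra.lift ℝ ![M₁, M₂] (FreeAlgebra.ι ℝ i) = ![M₁, M₂] i := by
  simp

theorem trFun_idem {ι : Type*} [Fintype ι] [DecidableEq ι] (M₁ M₂ : Matrix ι ι ℝ)
    (h₁ : M₁ * M₁ = M₁) (h₂ : M₂ * M₂ = M₂) (i : Fin 2) (x y : FreeAlgebra ℝ (Fin 2)) :
    trFun M₁ M₂ (x * (FreeAlgebra.ι ℝ i * FreeAlgebra.ι ℝ i) * y) =
      trFun M₁ M₂ (x * FreeAlgebra.ι ℝ i * y) := by
  rw [trFun_apply, trFun_apply]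
  simp only [map_mul, lift_gen]
  fin_cases i
  · simp [h₁]
  · simp [h₂]

theorem trFun_one {ι : Type*} [Fintype ι] [DecidableEq ι] (M₁ M₂ : Matrix ι ι ℝ) :
    trFun M₁ M₂ 1 = (Fintype.card ι : ℝ) := by
  rw [trFun_apply, map_one, Matrix.trace_one]

theorem trFun_gen0 {ι : Type*} [Fintype ι] [DecidableEq ι] (M₁ M₂ : Matrix ι ι ℝ) :
    trFun M₁ M₂ (FreeAlgebra.ι ℝ 0) = Matrix.trace M₁ := by
  rw [trFun_apply, lift_gen]; rfl

theorem trFun_gen1 {ι : Type*} [Fintype ι] [DecidableEq ι] (M₁ M₂ : Matrix ι ι ℝ) :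
    trFun M₁ M₂ (FreeAlgebra.ι ℝ 1) = Matrix.trace M₂ := by
  rw [trFun_apply, lift_gen]; rfl

theorem trFun_pow {ι : Type*} [Fintype ι] [DecidableEq ι] (M₁ M₂ : Matrix ι ι ℝ) (k : ℕ) :
    trFun M₁ M₂ ((FreeAlgebra.ι ℝ 0 * FreeAlgebra.ι ℝ 1) ^ k) = Matrix.trace ((M₁ * M₂) ^ k) := by
  rw [trFun_apply, map_pow, map_mul, lift_gen, lift_gen]; rfl

/-- the element of the free algebra giving the alternating product of the `T`'s -/
noncomputable def altFA (a b : ℝ) (k : ℕ) : FreeAlgebra ℝ (Fin 2) :=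
  alt ((a + 1) • FreeAlgebra.ι ℝ 0 - 1) ((b + 1) • FreeAlgebra.ι ℝ 1 - 1) k

/-- the same with the roles of the generators exchanged -/
noncomputable def altFA' (a b : ℝ) (k : ℕ) : FreeAlgebra ℝ (Fin 2) :=
  alt ((b + 1) • FreeAlgebra.ι ℝ 1 - 1) ((a + 1) • FreeAlgebra.ι ℝ 0 - 1) k

theorem trFun_altFA {ι : Type*} [Fintype ι] [DecidableEq ι] (M₁ M₂ : Matrix ι ι ℝ) (a b : ℝ)
    (k : ℕ) : trFun M₁ M₂ (altFA a b k) =
      Matrix.trace (alt ((a + 1) • M₁ - 1) ((b + 1) • M₂ - 1) k) := by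
  rw [trFun_apply, altFA, map_alt]
  simp only [map_sub, map_smul, map_one, lift_gen]
  rfl

theorem trFun_altFA' {ι : Type*} [Fintype ι] [DecidableEq ι] (M₁ M₂ : Matrix ι ι ℝ) (a b : ℝ)
    (k : ℕ) : trFun M₁ M₂ (altFA' a b k) =
      Matrix.trace (alt ((b + 1) • M₂ - 1) ((a + 1) • M₁ - 1) k) := by
  rw [trFun_apply, altFA', map_alt]
  simp only [map_sub, map_smul, map_one, lift_gen]
  rfl

end Cfsg.Agent.Helper19.FH
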