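import Cfsg.Agent.Helper19.FH.BLemmas

/-!
# Feit–Higman (S1142), part B: more lemmas for the assembly
-/

set_option autoImplicit false

namespace Cfsg.Agent.Helper19.FH

open Matrix

/-! ### linearity of the pairing -/

theorem pairF_add (n : ℕ) (a b : ℝ) (f₁ f₂ f₁' f₂' g₁ g₂ : ℕ → ℝ) :
    pairF n a b (fun k => f₁ k + f₁' k) (fun k => f₂ k + f₂' k) g₁ g₂ =
      pairF n a b f₁ f₂ g₁ g₂ + pairF n a b f₁' f₂' g₁ g₂ := by
  unfold pairF
  simp only [add_mul, mul_add, Finset.sum_add_distrib]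
  ring

theorem pairF_smul (n : ℕ) (a b c : ℝ) (f₁ f₂ g₁ g₂ : ℕ → ℝ) :
    pairF n a b (fun k => c * f₁ k) (fun k => c * f₂ k) g₁ g₂ = c * pairF n a b f₁ f₂ g₁ g₂ := by
  unfold pairF
  rw [mul_add, Finset.mul_sum, Finset.mul_sum]
  congr 1 <;> exact Finset.sum_congr rfl (fun k _ => by ring)

theorem pairF_sum {I : Type*} (S : Finset I) (n : ℕ) (a b : ℝ) (f₁ f₂ : I → ℕ → ℝ)
    (g₁ g₂ : ℕ → ℝ) :
    pairF n a b (fun k => ∑ i ∈ S, f₁ i k) (fun k => ∑ i ∈ S, f₂ i k) g₁ g₂ =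
      ∑ i ∈ S, pairF n a b (f₁ i) (f₂ i) g₁ g₂ := by
  classical
  induction S using Finset.induction_on with
  | empty => simp [pairF]
  | insert i S hi ih =>
    simp only [Finset.sum_insert hi]
    rw [pairF_add, ih]

theorem pairF_congr (n : ℕ) (a b : ℝ) (f₁ f₂ f₁' f₂' g₁ g₂ : ℕ → ℝ)
    (h₁ : ∀ k, k ≤ n → f₁ k = f₁' k) (h₂ : ∀ k, 1 ≤ k → k < n → f₂ k = f₂' k) :
    pairF n a b f₁ f₂ g₁ g₂ = pairF n a b f₁' f₂' g₁ g₂ := by
  unfold pairF
  congr 1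
  · apply Finset.sum_congr rfl
    intro k hk
    rw [h₁ k (by simpa [Nat.lt_succ_iff] using hk)]
  · apply Finset.sum_congr rfl
    intro k hk
    rw [Finset.mem_Ico] at hk
    rw [h₂ k hk.1 hk.2]

theorem pair_symm {ι κ : Type*} [Fintype ι] [Fintype κ] [DecidableEq ι] [DecidableEq κ]
    (n : ℕ) (a b : ℝ) (t₁ t₂ : Matrix ι ι ℝ) (s₁ s₂ : Matrix κ κ ℝ) :
    pair n a b t₁ t₂ s₁ s₂ = pair n a b s₁ s₂ t₁ t₂ := by
  unfold pair pairF
  congr 1 <;> exact Finset.sum_congr rfl (fun k _ => by ring)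

/-- the pairing with a trace function supported on the empty word -/
theorem pairF_delta (n : ℕ) (a b : ℝ) (f₁ f₂ g₁ g₂ : ℕ → ℝ)
    (h₁ : ∀ k, 1 ≤ k → k ≤ n → f₁ k = 0) (h₂ : ∀ k, 1 ≤ k → k < n → f₂ k = 0) :
    pairF n a b f₁ f₂ g₁ g₂ = f₁ 0 * g₁ 0 := by
  unfold pairF
  rw [Finset.sum_eq_single 0, Finset.sum_eq_zero]
  · simp [wt]
  · intro k hk
    rw [Finset.mem_Ico] at hk
    rw [h₂ k hk.1 hk.2]
    ring
  · intro k hk hk0
    rw [h₁ k (by omega) (by simpa [Nat.lt_succ_iff] using hk)]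
    ring
  · intro h
    simp at h

/-! ### idempotents from the quadratic relation -/

theorem idem_of_sq {X : Type*} [Fintype X] [DecidableEq X] (a : ℝ) (ha : a + 1 ≠ 0)
    (T : Matrix X X ℝ) (hT : T * T = a • (1 : Matrix X X ℝ) + (a - 1) • T) :
    ((a + 1)⁻¹ • (T + 1)) * ((a + 1)⁻¹ • (T + 1)) = (a + 1)⁻¹ • (T + 1) := by
  rw [Matrix.smul_mul, Matrix.mul_smul, smul_smul]
  have e : (T + 1) * (T + 1) = (a + 1) • (T + 1) := by
    rw [add_mul, mul_add, mul_add, hT]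
    simp only [mul_one, one_mul, smul_add, add_smul, sub_smul, one_smul]
    abel
  rw [e, smul_smul]
  congr 1
  field_simp

theorem T_of_idem {X : Type*} [Fintype X] [DecidableEq X] (a : ℝ) (ha : a + 1 ≠ 0)
    (T : Matrix X X ℝ) : (a + 1) • ((a + 1)⁻¹ • (T + 1)) - 1 = T := by
  rw [smul_smul, mul_inv_cancel₀ ha, one_smul]
  abel

/-! ### the two-dimensional model -/

theorem E₁_idem (lam : ℝ) : E₁ lam * E₁ lam = E₁ lam := by
  ext i j
  fin_cases i <;> fin_cases j <;> simp [E₁, Matrix.mul_apply, Fin.sum_univ_two]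

theorem E₂_idem : E₂ * E₂ = E₂ := by
  ext i j
  fin_cases i <;> fin_cases j <;> simp [E₂, Matrix.mul_apply, Fin.sum_univ_two]

theorem mod₁_eq (a lam : ℝ) : (a + 1) • E₁ lam - 1 = mod₁ a lam := by
  ext i j
  fin_cases i <;> fin_cases j <;> simp [E₁, mod₁, Matrix.one_apply]

theorem mod₂_eq (b : ℝ) : (b + 1) • E₂ - 1 = mod₂ b := by
  ext i j
  fin_cases i <;> fin_cases j <;> simp [E₂, mod₂, Matrix.one_apply]

theorem trace_E₁ (lam : ℝ) : Matrix.trace (E₁ lam) = 1 := by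
  simp [E₁, Matrix.trace, Fin.sum_univ_two]

theorem trace_E₂ : Matrix.trace E₂ = 1 := by
  simp [E₂, Matrix.trace, Fin.sum_univ_two]

theorem E₁E₂_pow (lam : ℝ) (k : ℕ) : (E₁ lam * E₂) ^ (k + 1) = lam ^ k • (E₁ lam * E₂) := by
  have e : E₁ lam * E₂ = !![lam, lam; 0, 0] := by
    ext i j
    fin_cases i <;> fin_cases j <;> simp [E₁, E₂, Matrix.mul_apply, Fin.sum_univ_two]
  rw [e]
  induction k with
  | zero => simp
  | succ k ih =>
    rw [pow_succ, ih]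
    ext i j
    fin_cases i <;> fin_cases j <;> simp [Matrix.mul_apply, Fin.sum_univ_two, pow_succ] <;> ring

theorem trace_E₁E₂_pow (lam : ℝ) (k : ℕ) (hk : 1 ≤ k) :
    Matrix.trace ((E₁ lam * E₂) ^ k) = lam ^ k := by
  obtain ⟨k, rfl⟩ := Nat.exists_eq_succ_of_ne_zero (by omega : k ≠ 0)
  rw [E₁E₂_pow, Matrix.trace_smul]
  have e : Matrix.trace (E₁ lam * E₂) = lam := by
    simp [E₁, E₂, Matrix.trace, Matrix.mul_apply, Fin.sum_univ_two]
  rw [e, pow_succ]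
  simp

theorem mod_sq₁ (a lam : ℝ) :
    mod₁ a lam * mod₁ a lam = a • (1 : Matrix (Fin 2) (Fin 2) ℝ) + (a - 1) • mod₁ a lam := by
  ext i j
  fin_cases i <;> fin_cases j <;>
    simp [mod₁, Matrix.mul_apply, Fin.sum_univ_two, Matrix.one_apply] <;> ring

theorem mod_sq₂ (b : ℝ) :
    mod₂ b * mod₂ b = b • (1 : Matrix (Fin 2) (Fin 2) ℝ) + (b - 1) • mod₂ b := by
  ext i j
  fin_cases i <;> fin_cases j <;>
    simp [mod₂, Matrix.mul_apply, Fin.sum_univ_two, Matrix.one_apply] <;> ring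

/-! ### one-dimensional Hecke pairs -/

theorem one_sq (a x : ℝ) (h : x = a ∨ x = -1) :
    (!![x] : Matrix (Fin 1) (Fin 1) ℝ) * !![x] =
      a • (1 : Matrix (Fin 1) (Fin 1) ℝ) + (a - 1) • !![x] := by
  ext i j
  fin_cases i; fin_cases j
  rcases h with rfl | rfl <;> simp [Matrix.mul_apply] <;> ring

theorem hecke_one (n : ℕ) (a b x y : ℝ) (hx : x = a ∨ x = -1) (hy : y = b ∨ y = -1)
    (h : alt x y n = alt y x n) :
    IsHeckePair n a b (!![x] : Matrix (Fin 1) (Fin 1) ℝ) !![y] :=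
  ⟨one_sq a x hx, one_sq b y hy, by rw [alt_one_by_one, alt_one_by_one, h]⟩

end Cfsg.Agent.Helper19.FH
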