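import Cfsg.Agent.Helper19.FH.BLemmas2

/-!
# Feit–Higman (S1142), part B: joint eigenvectors and the rank argument
-/

set_option autoImplicit false

namespace Cfsg.Agent.Helper19.FH

open Matrix

theorem symm_dot {X : Type*} [Fintype X] (A : Matrix X X ℝ) (hA : Aᵀ = A) (x y : X → ℝ) :
    (A.mulVec x) ⬝ᵥ y = x ⬝ᵥ A.mulVec y := by
  rw [Matrix.dotProduct_mulVec, ← Matrix.vecMul_transpose, hA]

/-- if `e₁ w = w` and `e₁ e₂ e₁ w = 0` then `e₂ w = 0` -/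
theorem e₂_eq_zero {X : Type*} [Fintype X] [DecidableEq X]
    (e₁ e₂ : Matrix X X ℝ) (hs₁ : e₁ᵀ = e₁) (hs₂ : e₂ᵀ = e₂) (he₂ : e₂ * e₂ = e₂)
    (w : X → ℝ) (hw₁ : e₁.mulVec w = w) (hCw : (e₁ * e₂ * e₁).mulVec w = 0) :
    e₂.mulVec w = 0 := by
  have h : e₂.mulVec w ⬝ᵥ e₂.mulVec w = 0 := by
    rw [symm_dot e₂ hs₂, Matrix.mulVec_mulVec, he₂]
    have e : w ⬝ᵥ e₂.mulVec w = e₁.mulVec w ⬝ᵥ e₂.mulVec (e₁.mulVec w) := by rw [hw₁]
    rw [e, symm_dot e₁ hs₁, Matrix.mulVec_mulVec, Matrix.mulVec_mulVec, hCw]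
    simp
  exact dotProduct_self_eq_zero.mp h

/-- for odd `n` there is no joint eigenvector of type `(a, -1)` -/
theorem no_joint_odd {X : Type*} [Fintype X] [DecidableEq X] (n : ℕ) (hodd : Odd n) (a b : ℝ)
    (ha : 0 < a) (e₁ e₂ : Matrix X X ℝ) (hs₁ : e₁ᵀ = e₁) (hs₂ : e₂ᵀ = e₂) (he₂ : e₂ * e₂ = e₂)
    (hbraid : alt ((a + 1) • e₁ - 1) ((b + 1) • e₂ - 1) n =
      alt ((b + 1) • e₂ - 1) ((a + 1) • e₁ - 1) n)
    (w : X → ℝ) (hw₁ : e₁.mulVec w = w) (hCw : (e₁ * e₂ * e₁).mulVec w = 0) : w = 0 := by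
  have h2 := e₂_eq_zero e₁ e₂ hs₁ hs₂ he₂ w hw₁ hCw
  have t1 : ((a + 1) • e₁ - 1).mulVec w = a • w := by
    rw [Matrix.sub_mulVec, Matrix.smul_mulVec, hw₁, Matrix.one_mulVec]
    ext x
    simp
    ring
  have t2 : ((b + 1) • e₂ - 1).mulVec w = (-1 : ℝ) • w := by
    rw [Matrix.sub_mulVec, Matrix.smul_mulVec, h2, Matrix.one_mulVec]
    ext x
    simp
  have e1 := alt_mulVec' _ _ w a (-1) t1 t2 n
  have e2 := alt_mulVec' _ _ w (-1) a t2 t1 n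
  rw [hbraid, e2, alt_real', alt_real'] at e1
  obtain ⟨m, rfl⟩ := hodd
  unfold wt at e1
  have f1 : (2 * m + 1 + 1) / 2 = m + 1 := by omega
  have f2 : (2 * m + 1) / 2 = m := by omega
  rw [f1, f2] at e1
  by_contra hw
  have hne : ∃ x, w x ≠ 0 := by
    by_contra hcon
    apply hw
    funext x
    by_contra hx
    exact hcon ⟨x, hx⟩
  obtain ⟨x, hx⟩ := hne
  have e3 := congrFun e1 x
  simp only [Pi.smul_apply, smul_eq_mul] at e3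
  have e4 : (-1 : ℝ) ^ (m + 1) * a ^ m = a ^ (m + 1) * (-1) ^ m := mul_right_cancel₀ hx e3
  have e5 : a ^ m * (-1 : ℝ) ^ m * (a + 1) = 0 := by
    rw [pow_succ, pow_succ] at e4
    linarith
  have : a ^ m * (-1 : ℝ) ^ m * (a + 1) ≠ 0 := by
    have h1 : a ^ m ≠ 0 := by positivity
    have h2 : ((-1 : ℝ)) ^ m ≠ 0 := by
      apply pow_ne_zero
      norm_num
    have h3 : a + 1 ≠ 0 := by positivity
    exact mul_ne_zero (mul_ne_zero h1 h2) h3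
  exact this e5

end Cfsg.Agent.Helper19.FH
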