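import Cfsg.Agent.Helper19.FH.BLemmas3

/-!
# Feit–Higman (S1142), part B: tracial functionals, traces of powers
-/

set_option autoImplicit false

namespace Cfsg.Agent.Helper19.FH

open Matrix

/-- tracial functionals killing the idempotent relations -/
def IsTr (φ : FreeAlgebra ℝ (Fin 2) →ₗ[ℝ] ℝ) : Prop :=
  (∀ x y, φ (x * y) = φ (y * x)) ∧
    ∀ (i : Fin 2) (x y : FreeAlgebra ℝ (Fin 2)),
      φ (x * (FreeAlgebra.ι ℝ i * FreeAlgebra.ι ℝ i) * y) = φ (x * FreeAlgebra.ι ℝ i * y)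

theorem IsTr.sub {φ ψ : FreeAlgebra ℝ (Fin 2) →ₗ[ℝ] ℝ} (h₁ : IsTr φ) (h₂ : IsTr ψ) :
    IsTr (φ - ψ) :=
  ⟨fun x y => by rw [LinearMap.sub_apply, LinearMap.sub_apply, h₁.1, h₂.1],
    fun i x y => by rw [LinearMap.sub_apply, LinearMap.sub_apply, h₁.2, h₂.2]⟩

theorem IsTr.smul {φ : FreeAlgebra ℝ (Fin 2) →ₗ[ℝ] ℝ} (c : ℝ) (h₁ : IsTr φ) : IsTr (c • φ) :=
  ⟨fun x y => by rw [LinearMap.smul_apply, LinearMap.smul_apply, h₁.1],
    fun i x y => by rw [LinearMap.smul_apply, LinearMap.smul_apply, h₁.2]⟩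

theorem isTr_zero : IsTr 0 := ⟨fun _ _ => rfl, fun _ _ _ => rfl⟩

theorem IsTr.add {φ ψ : FreeAlgebra ℝ (Fin 2) →ₗ[ℝ] ℝ} (h₁ : IsTr φ) (h₂ : IsTr ψ) :
    IsTr (φ + ψ) :=
  ⟨fun x y => by rw [LinearMap.add_apply, LinearMap.add_apply, h₁.1, h₂.1],
    fun i x y => by rw [LinearMap.add_apply, LinearMap.add_apply, h₁.2, h₂.2]⟩

theorem isTr_sum {I : Type*} (S : Finset I) (φ : I → FreeAlgebra ℝ (Fin 2) →ₗ[ℝ] ℝ)
    (h : ∀ i ∈ S, IsTr (φ i)) : IsTr (∑ i ∈ S, φ i) := by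
  classical
  induction S using Finset.induction_on with
  | empty => simpa using isTr_zero
  | insert i S hi ih =>
    rw [Finset.sum_insert hi]
    exact (h i (Finset.mem_insert_self i S)).add
      (ih (fun k hk => h k (Finset.mem_insert_of_mem hk)))

theorem isTr_trFun {ι : Type*} [Fintype ι] [DecidableEq ι] (M₁ M₂ : Matrix ι ι ℝ)
    (h₁ : M₁ * M₁ = M₁) (h₂ : M₂ * M₂ = M₂) : IsTr (trFun M₁ M₂) :=
  ⟨trFun_comm M₁ M₂, trFun_idem M₁ M₂ h₁ h₂⟩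

theorem one_idem (p : ℝ) (hp : p = 0 ∨ p = 1) :
    (!![p] : Matrix (Fin 1) (Fin 1) ℝ) * !![p] = !![p] := by
  ext i j
  fin_cases i; fin_cases j
  rcases hp with rfl | rfl <;> simp [Matrix.mul_apply]

theorem trace_one_by_one (p : ℝ) : Matrix.trace (!![p] : Matrix (Fin 1) (Fin 1) ℝ) = p := by
  simp [Matrix.trace]

theorem one_by_one_mul_pow (p q : ℝ) (k : ℕ) :
    ((!![p] : Matrix (Fin 1) (Fin 1) ℝ) * !![q]) ^ k = !![(p * q) ^ k] := by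
  induction k with
  | zero =>
    ext i j
    fin_cases i; fin_cases j
    simp
  | succ k ih =>
    rw [pow_succ, ih]
    ext i j
    fin_cases i; fin_cases j
    simp [Matrix.mul_apply, pow_succ]

theorem one_by_one_T (a p : ℝ) :
    (a + 1) • (!![p] : Matrix (Fin 1) (Fin 1) ℝ) - 1 = !![(a + 1) * p - 1] := by
  ext i j
  fin_cases i; fin_cases j
  simp

/-- traces of powers of `e₁ e₂` and of `e₁ e₂ e₁` -/
theorem trace_pow_C {X : Type*} [Fintype X] [DecidableEq X] (e₁ e₂ : Matrix X X ℝ)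
    (he₁ : e₁ * e₁ = e₁) (k : ℕ) (hk : 1 ≤ k) :
    Matrix.trace ((e₁ * e₂) ^ k) = Matrix.trace ((e₁ * e₂ * e₁) ^ k) := by
  have h1 : ∀ m : ℕ, (e₁ * e₂ * e₁) ^ (m + 1) = (e₁ * e₂) ^ (m + 1) * e₁ := by
    intro m
    induction m with
    | zero => simp
    | succ m ih =>
      rw [pow_succ, ih, pow_succ (e₁ * e₂) (m + 1)]
      simp only [Matrix.mul_assoc]
      rw [← Matrix.mul_assoc e₁ e₁, he₁]
  obtain ⟨m, rfl⟩ := Nat.exists_eq_succ_of_ne_zero (by omega : k ≠ 0)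
  rw [h1, Matrix.trace_mul_comm, pow_succ', ← Matrix.mul_assoc, ← Matrix.mul_assoc, he₁]

end Cfsg.Agent.Helper19.FH
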