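import Cfsg.Agent.Helper19.FH.BLemmas4

/-!
# Feit–Higman (S1142), part B: the linear combination lemma for the pairing
-/

set_option autoImplicit false

namespace Cfsg.Agent.Helper19.FH

open Matrix

theorem pairF_comb {I : Type*} (S : Finset I) (n : ℕ) (a b : ℝ) (F₁ F₂ : I → ℕ → ℝ)
    (c₁ c₂ c₃ c₄ : ℝ) (p₁ p₁' p₂ p₂' p₃ p₃' p₄ p₄' g₁ g₂ : ℕ → ℝ) :
    pairF n a b
      (fun k => ∑ i ∈ S, F₁ i k + c₁ * p₁ k + c₂ * p₂ k + c₃ * p₃ k + c₄ * p₄ k)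
      (fun k => ∑ i ∈ S, F₂ i k + c₁ * p₁' k + c₂ * p₂' k + c₃ * p₃' k + c₄ * p₄' k) g₁ g₂ =
    ∑ i ∈ S, pairF n a b (F₁ i) (F₂ i) g₁ g₂ + c₁ * pairF n a b p₁ p₁' g₁ g₂ +
      c₂ * pairF n a b p₂ p₂' g₁ g₂ + c₃ * pairF n a b p₃ p₃' g₁ g₂ +
      c₄ * pairF n a b p₄ p₄' g₁ g₂ := by
  rw [← pairF_sum, ← pairF_smul, ← pairF_smul, ← pairF_smul, ← pairF_smul, ← pairF_add,
    ← pairF_add, ← pairF_add, ← pairF_add]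

end Cfsg.Agent.Helper19.FH
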