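import Cfsg.Agent.Helper19.FH.Defs
import Cfsg.Agent.Helper19.Stein.BNMin
import Cfsg.Agent.Helper19.Stein.TauB

/-!
# Feit–Higman (S1142): the Hecke matrices of a (B,N)-pair

`relPos P x y` is the relative position (an element of `W`) of two cosets of `B`;
`hm P w` is the `0/1`-matrix of the relation "relative position `w`" on `G ⧸ B`.
-/

set_option autoImplicit false

namespace Cfsg.Agent.Helper19.FH

open Cfsg.Agent.Helper6 Cfsg.Agent.Helper19.Stein

variable {G : Type*} [Group G] (P : Cfsg.BNPair G)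

/-- the relative position of two cosets of `B`: the type of `g⁻¹ * h` -/
noncomputable def relPos (x y : G ⧸ P.B) : P.N ⧸ (P.B ⊓ P.N).subgroupOf P.N :=
  Quotient.liftOn₂' x y (fun g h => tau P (g⁻¹ * h)) (fun a₁ a₂ b₁ b₂ h₁ h₂ => by
    have e₁ : a₁⁻¹ * b₁ ∈ P.B := QuotientGroup.leftRel_apply.mp h₁
    have e₂ : a₂⁻¹ * b₂ ∈ P.B := QuotientGroup.leftRel_apply.mp h₂
    have e : b₁⁻¹ * b₂ = (a₁⁻¹ * b₁)⁻¹ * (a₁⁻¹ * a₂) * (a₂⁻¹ * b₂) := by group
    show tau P (a₁⁻¹ * a₂) = tau P (b₁⁻¹ * b₂)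
    rw [e, tau_mul_B P e₂, tau_B_mul P (P.B.inv_mem e₁)])

theorem relPos_mk (g h : G) :
    relPos P (QuotientGroup.mk g : G ⧸ P.B) (QuotientGroup.mk h) = tau P (g⁻¹ * h) := rfl

theorem relPos_eq_one_iff (x y : G ⧸ P.B) : relPos P x y = 1 ↔ x = y := by
  induction x using QuotientGroup.induction_on with
  | _ g =>
    induction y using QuotientGroup.induction_on with
    | _ h =>
      rw [relPos_mk, tau_eq_one_iff, QuotientGroup.eq]

theorem relPos_symm (x y : G ⧸ P.B) : relPos P y x = (relPos P x y)⁻¹ := by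
  induction x using QuotientGroup.induction_on with
  | _ g =>
    induction y using QuotientGroup.induction_on with
    | _ h =>
      rw [relPos_mk, relPos_mk, ← tau_inv]
      congr 1
      group

theorem relPos_smul (g : G) (x y : G ⧸ P.B) : relPos P (g • x) (g • y) = relPos P x y := by
  induction x using QuotientGroup.induction_on with
  | _ a =>
    induction y using QuotientGroup.induction_on with
    | _ b =>
      rw [MulAction.Quotient.smul_mk, MulAction.Quotient.smul_mk, relPos_mk, relPos_mk]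
      congr 1
      simp only [smul_eq_mul]
      group

open scoped Classical in
/-- the Hecke matrix of `w`: the indicator matrix of "relative position `w`" -/
noncomputable def hm [Fintype (G ⧸ P.B)] (w : P.N ⧸ (P.B ⊓ P.N).subgroupOf P.N) :
    Matrix (G ⧸ P.B) (G ⧸ P.B) ℝ :=
  fun x y => if relPos P x y = w then 1 else 0

open scoped Classical in
theorem hm_apply [Fintype (G ⧸ P.B)] (w : P.N ⧸ (P.B ⊓ P.N).subgroupOf P.N) (x y : G ⧸ P.B) :
    hm P w x y = if relPos P x y = w then 1 else 0 := rfl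

theorem hm_one [Fintype (G ⧸ P.B)] [DecidableEq (G ⧸ P.B)] : hm P 1 = 1 := by
  ext x y
  rw [hm_apply, Matrix.one_apply]
  simp only [relPos_eq_one_iff]

theorem hm_transpose [Fintype (G ⧸ P.B)] (w : P.N ⧸ (P.B ⊓ P.N).subgroupOf P.N) :
    (hm P w).transpose = hm P w⁻¹ := by
  ext x y
  rw [Matrix.transpose_apply, hm_apply, hm_apply, relPos_symm P x y]
  by_cases h : relPos P x y = w⁻¹
  · rw [if_pos h, if_pos (by rw [h, inv_inv])]
  · rw [if_neg h, if_neg (fun h' => h (by rw [← h', inv_inv]))]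

theorem trace_hm [Fintype (G ⧸ P.B)] {w : P.N ⧸ (P.B ⊓ P.N).subgroupOf P.N} (hw : w ≠ 1) :
    Matrix.trace (hm P w) = 0 := by
  rw [Matrix.trace]
  apply Finset.sum_eq_zero
  intro x _
  rw [Matrix.diag_apply, hm_apply, if_neg]
  rw [(relPos_eq_one_iff P x x).2 rfl]
  exact fun h => hw h.symm

end Cfsg.Agent.Helper19.FH
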