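import Mathlib

/-!
# Feit–Higman (S1142): common definitions

Only Mathlib is imported.  Everything lives in the namespace `Cfsg.Agent.Helper19.FH`.
-/

set_option autoImplicit false

namespace Cfsg.Agent.Helper19.FH

/-- The alternating product `a * b * a * ...` with `k` factors (starting with `a`). -/
def alt {M : Type*} [Monoid M] (a b : M) : ℕ → M
  | 0 => 1
  | (k + 1) => a * alt b a k

@[simp] theorem alt_zero {M : Type*} [Monoid M] (a b : M) : alt a b 0 = 1 := rfl

theorem alt_succ {M : Type*} [Monoid M] (a b : M) (k : ℕ) : alt a b (k + 1) = a * alt b a k := rfl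

/-- The weight `a ^ ⌈k/2⌉ * b ^ ⌊k/2⌋` of the alternating word of length `k` starting with the
generator of parameter `a`. -/
noncomputable def wt (a b : ℝ) (k : ℕ) : ℝ := a ^ ((k + 1) / 2) * b ^ (k / 2)

/-- Two elements of a real algebra satisfying the quadratic relations of parameters `a`, `b`
and the braid relation of length `n`. -/
structure IsHeckePair {A : Type*} [Ring A] [Algebra ℝ A] (n : ℕ) (a b : ℝ) (t₁ t₂ : A) : Prop where
  sq₁ : t₁ * t₁ = a • (1 : A) + (a - 1) • t₁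
  sq₂ : t₂ * t₂ = b • (1 : A) + (b - 1) • t₂
  braid : alt t₁ t₂ n = alt t₂ t₁ n

/-- The pairing of two "trace functions" on the `2n` alternating words
(`f₁ k`, `g₁ k` for the word of length `k` starting with the first generator, `0 ≤ k ≤ n`;
`f₂ k`, `g₂ k` for the word of length `k` starting with the second generator, `1 ≤ k < n`). -/
noncomputable def pairF (n : ℕ) (a b : ℝ) (f₁ f₂ g₁ g₂ : ℕ → ℝ) : ℝ :=
  ∑ k ∈ Finset.range (n + 1), (wt a b k)⁻¹ * (f₁ k * g₁ k) +
    ∑ k ∈ Finset.Ico 1 n, (wt b a k)⁻¹ * (f₂ k * g₂ k)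

/-- The pairing of the trace functions of two pairs of matrices. -/
noncomputable def pair {ι κ : Type*} [Fintype ι] [Fintype κ] [DecidableEq ι] [DecidableEq κ]
    (n : ℕ) (a b : ℝ) (t₁ t₂ : Matrix ι ι ℝ) (s₁ s₂ : Matrix κ κ ℝ) : ℝ :=
  pairF n a b (fun k => Matrix.trace (alt t₁ t₂ k)) (fun k => Matrix.trace (alt t₂ t₁ k))
    (fun k => Matrix.trace (alt s₁ s₂ k)) (fun k => Matrix.trace (alt s₂ s₁ k))

/-- First idempotent of the two-dimensional model with parameter `lam`. -/
def E₁ (lam : ℝ) : Matrix (Fin 2) (Fin 2) ℝ := !![1, lam; 0, 0]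

/-- Second idempotent of the two-dimensional model. -/
def E₂ : Matrix (Fin 2) (Fin 2) ℝ := !![0, 0; 1, 1]

/-- First generator of the two-dimensional model: `(a+1) • E₁ lam - 1`. -/
def mod₁ (a lam : ℝ) : Matrix (Fin 2) (Fin 2) ℝ := !![a, (a + 1) * lam; 0, -1]

/-- Second generator of the two-dimensional model: `(b+1) • E₂ - 1`. -/
def mod₂ (b : ℝ) : Matrix (Fin 2) (Fin 2) ℝ := !![-1, 0; b + 1, b]

/-- `τ_j = 2 √(ab) cos (2π j / n)`. -/
noncomputable def tauOf (n : ℕ) (a b : ℝ) (j : ℕ) : ℝ :=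
  2 * Real.sqrt (a * b) * Real.cos (2 * Real.pi * (j : ℝ) / (n : ℝ))

/-- The parameter `lam` of the model whose `trace (mod₁ * mod₂)` is `τ`. -/
noncomputable def lamOf (a b τ : ℝ) : ℝ := (τ + a + b) / ((a + 1) * (b + 1))

/-- The Schur element. -/
noncomputable def cfun (n : ℕ) (a b τ : ℝ) : ℝ :=
  (n : ℝ) * (1 + (a * (b - 1) ^ 2 + b * (a - 1) ^ 2 + (a - 1) * (b - 1) * τ) / (4 * a * b - τ ^ 2))

end Cfsg.Agent.Helper19.FH
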