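import Cfsg.Agent.Helper19.FH.BNDefs
import Cfsg.Agent.Helper19.FH.BLemmas
import Cfsg.Agent.Helper60.FHA2
import Cfsg.Agent.Helper50.FHA3
import Cfsg.Agent.Helper14.FHA4

/-!
# Feit–Higman (S1142), part A: the Hecke pair of a (B,N)-pair of rank 2
-/

set_option autoImplicit false

namespace Cfsg.Agent.Helper19.FH

open Cfsg.Agent.Helper6 Cfsg.Agent.Helper19.Stein Matrix

variable {G : Type*} [Group G] (P : Cfsg.BNPair G)

theorem partA [Finite G] [Fintype (G ⧸ P.B)] [DecidableEq (G ⧸ P.B)] (h2 : P.rank = 2) :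
    ∃ (n a b : ℕ) (T₁ T₂ : Matrix (G ⧸ P.B) (G ⧸ P.B) ℝ),
      ((P.B ⊓ P.N).subgroupOf P.N).index = 2 * n ∧ 2 ≤ n ∧ 2 ≤ a ∧ 2 ≤ b ∧
      T₁ᵀ = T₁ ∧ T₂ᵀ = T₂ ∧ IsHeckePair n (a : ℝ) (b : ℝ) T₁ T₂ ∧
      (∀ k, 1 ≤ k → k ≤ n → Matrix.trace (alt T₁ T₂ k) = 0 ∧ Matrix.trace (alt T₂ T₁ k) = 0) ∧
      (Odd n → a = b) := by
  classical
  have hE := exchData_wf P
  -- the two generators
  have hcard : Nat.card P.S = 2 := h2
  obtain ⟨s₁, s₂, hne, huniv⟩ := Nat.card_eq_two_iff.mp hcard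
  have hall : ∀ s : P.S, s = s₁ ∨ s = s₂ := by
    intro s
    have : s ∈ ({s₁, s₂} : Set P.S) := by rw [huniv]; trivial
    simpa using this
  have hfne : wf P s₁ ≠ wf P s₂ := fun h => hne (wf_injective P h)
  obtain ⟨n, hn2, hcardW, hbraidW, hlen⟩ := Cfsg.Agent.Helper14.FH.dihedral_pkg (wf P) hE s₁ s₂ hall hfne
  obtain ⟨a, ha2, hrow₁, hsq₁⟩ := Cfsg.Agent.Helper50.FH.hm_sq P s₁
  obtain ⟨b, hb2, hrow₂, hsq₂⟩ := Cfsg.Agent.Helper50.FH.hm_sq P s₂
  -- alternating products of Hecke matrices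
  have key : ∀ k, k ≤ n → alt (hm P (wf P s₁)) (hm P (wf P s₂)) k = hm P (alt (wf P s₁) (wf P s₂) k) ∧
      alt (hm P (wf P s₂)) (hm P (wf P s₁)) k = hm P (alt (wf P s₂) (wf P s₁) k) := by
    intro k
    induction k with
    | zero => intro _; simp [hm_one]
    | succ k ih =>
      intro hk
      obtain ⟨ih1, ih2⟩ := ih (by omega)
      obtain ⟨l1, l2⟩ := hlen k (by omega)
      obtain ⟨l1', l2'⟩ := hlen (k + 1) hk
      constructor
      · rw [alt_succ, ih2, alt_succ]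
        apply Cfsg.Agent.Helper60.FH.hm_mul
        rw [l2]
        rw [alt_succ] at l1'
        rw [l1']
        omega
      · rw [alt_succ, ih1, alt_succ]
        apply Cfsg.Agent.Helper60.FH.hm_mul
        rw [l1]
        rw [alt_succ] at l2'
        rw [l2']
        omega
  have hsymm : ∀ s : P.S, (hm P (wf P s))ᵀ = hm P (wf P s) := by
    intro s
    rw [hm_transpose, inv_gen hE s]
  refine ⟨n, a, b, hm P (wf P s₁), hm P (wf P s₂), ?_, hn2, ha2, hb2, hsymm s₁, hsymm s₂,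
    ⟨hsq₁, hsq₂, ?_⟩, ?_, ?_⟩
  · rw [Subgroup.index_eq_card]
    exact hcardW
  · rw [(key n le_rfl).1, (key n le_rfl).2, hbraidW]
  · intro k hk1 hkn
    obtain ⟨l1, l2⟩ := hlen k hkn
    rw [(key k hkn).1, (key k hkn).2]
    constructor
    · apply trace_hm
      intro h
      rw [h, wl_one] at l1
      omega
    · apply trace_hm
      intro h
      rw [h, wl_one] at l2
      omega
  · intro hodd
    -- the all-ones vector is a common eigenvector
    have h₁ : (hm P (wf P s₁)).mulVec (fun _ => (1 : ℝ)) = (a : ℝ) • (fun _ => (1 : ℝ)) := by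
      ext x
      simp [Matrix.mulVec, dotProduct, hrow₁ x]
    have h₂ : (hm P (wf P s₂)).mulVec (fun _ => (1 : ℝ)) = (b : ℝ) • (fun _ => (1 : ℝ)) := by
      ext x
      simp [Matrix.mulVec, dotProduct, hrow₂ x]
    have e1 := alt_mulVec' _ _ _ _ _ h₁ h₂ n
    have e2 := alt_mulVec' _ _ _ _ _ h₂ h₁ n
    have hbr : alt (hm P (wf P s₁)) (hm P (wf P s₂)) n = alt (hm P (wf P s₂)) (hm P (wf P s₁)) n := by
      rw [(key n le_rfl).1, (key n le_rfl).2, hbraidW]
    rw [hbr, e2] at e1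
    have hx : Nonempty (G ⧸ P.B) := ⟨QuotientGroup.mk 1⟩
    have e3 : alt (b : ℝ) (a : ℝ) n = alt (a : ℝ) (b : ℝ) n := by
      have := congrFun e1 hx.some
      simpa using this
    rw [alt_real', alt_real'] at e3
    obtain ⟨m, rfl⟩ := hodd
    unfold wt at e3
    have f1 : (2 * m + 1 + 1) / 2 = m + 1 := by omega
    have f2 : (2 * m + 1) / 2 = m := by omega
    rw [f1, f2] at e3
    have ha0 : (0 : ℝ) < a := by exact_mod_cast (by omega : 0 < a)
    have hb0 : (0 : ℝ) < b := by exact_mod_cast (by omega : 0 < b)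
    have e4 : (b : ℝ) * ((a : ℝ) ^ m * (b : ℝ) ^ m) = (a : ℝ) * ((a : ℝ) ^ m * (b : ℝ) ^ m) := by
      rw [pow_succ, pow_succ] at e3
      linarith
    have e5 : (b : ℝ) = a := mul_right_cancel₀ (by positivity) e4
    exact_mod_cast e5.symm

end Cfsg.Agent.Helper19.FH
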