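import Cfsg.Agent.Helper19.FH.BLemmas5
import Cfsg.Agent.Helper37.FHTE
import Cfsg.Agent.Helper91.FHSP
import Cfsg.Agent.Helper48.FHMI
import Cfsg.Agent.Helper22.FHBR
import Cfsg.Agent.Helper81.FHOR
import Cfsg.Agent.Helper53.FHNI
import Cfsg.Agent.Helper37.FHNM

/-!
# Feit–Higman (S1142), part B: the multiplicity formula
-/

set_option autoImplicit false

namespace Cfsg.Agent.Helper19.FH

open Matrix

/-- `lamOf` of an admissible `τ` is neither `0` nor `1` -/
theorem lamOf_ne (n : ℕ) (a b : ℝ) (ha : 2 ≤ a) (hb : 2 ≤ b) (j : ℕ) (hj : 0 < j) (hjn : 2 * j < n) :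
    lamOf a b (tauOf n a b j) ≠ 0 ∧ lamOf a b (tauOf n a b j) ≠ 1 := by
  have hab : 0 < a * b := by positivity
  have hr : 0 < Real.sqrt (a * b) := Real.sqrt_pos.mpr hab
  have hn0 : (0 : ℝ) < n := by
    have : 0 < n := by omega
    exact_mod_cast this
  -- the angle lies strictly between 0 and π
  have hang0 : 0 < 2 * Real.pi * (j : ℝ) / (n : ℝ) := by
    have : (0 : ℝ) < j := by exact_mod_cast hj
    positivity
  have hangpi : 2 * Real.pi * (j : ℝ) / (n : ℝ) < Real.pi := by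
    rw [div_lt_iff₀ hn0]
    have : (2 * j : ℝ) < n := by exact_mod_cast hjn
    nlinarith [Real.pi_pos]
  have hcos1 : Real.cos (2 * Real.pi * (j : ℝ) / (n : ℝ)) < 1 := by
    have := Real.cos_lt_cos_of_nonneg_of_le_pi (le_refl 0) hangpi.le hang0
    simpa using this
  have hcos2 : -1 < Real.cos (2 * Real.pi * (j : ℝ) / (n : ℝ)) := by
    have := Real.cos_lt_cos_of_nonneg_of_le_pi hang0.le (le_refl Real.pi) hangpi
    simpa using this
  have hsq : Real.sqrt (a * b) * Real.sqrt (a * b) = a * b := Real.mul_self_sqrt hab.le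
  -- 2 √(ab) ≤ a + b and 2 √(ab) ≤ ab + 1
  have h1 : 2 * Real.sqrt (a * b) ≤ a + b := by nlinarith [sq_nonneg (a - b), sq_nonneg (a + b - 2 * Real.sqrt (a * b))]
  have h2 : 2 * Real.sqrt (a * b) ≤ a * b + 1 := by nlinarith [sq_nonneg (Real.sqrt (a * b) - 1)]
  have hτ1 : tauOf n a b j < 2 * Real.sqrt (a * b) := by
    unfold tauOf
    nlinarith
  have hτ2 : -(2 * Real.sqrt (a * b)) < tauOf n a b j := by
    unfold tauOf
    nlinarith
  have hden : 0 < (a + 1) * (b + 1) := by positivity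
  constructor
  · unfold lamOf
    apply div_ne_zero _ hden.ne'
    linarith
  · unfold lamOf
    rw [Ne, div_eq_one_iff_eq hden.ne']
    intro h
    nlinarith

/-- splitting a sum of powers of the eigenvalues -/
theorem sum_pow_split {X : Type*} [Fintype X] [DecidableEq X] (lam : X → ℝ) (k : ℕ) (hk : 1 ≤ k) :
    ∑ i, lam i ^ k = ∑ i ∈ Finset.univ.filter (fun i => lam i ≠ 0 ∧ lam i ≠ 1), lam i ^ k +
      ((Finset.univ.filter (fun i => lam i = 1)).card : ℝ) := by
  classical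
  have h1 : ∑ i, lam i ^ k = ∑ i ∈ Finset.univ.filter (fun i => lam i ≠ 0), lam i ^ k := by
    rw [Finset.sum_filter]
    apply Finset.sum_congr rfl
    intro i _
    by_cases h : lam i = 0
    · simp [h]
      omega
    · simp [h]
  rw [h1]
  have h2 : Finset.univ.filter (fun i => lam i ≠ 0) =
      Finset.univ.filter (fun i => lam i ≠ 0 ∧ lam i ≠ 1) ∪ Finset.univ.filter (fun i => lam i = 1) := by
    ext i
    simp only [Finset.mem_filter, Finset.mem_univ, true_and, Finset.mem_union]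
    constructor
    · intro h
      by_cases h1 : lam i = 1
      · right; exact h1
      · left; exact ⟨h, h1⟩
    · rintro (h | h)
      · exact h.1
      · rw [h]; norm_num
  have h3 : Disjoint (Finset.univ.filter (fun i => lam i ≠ 0 ∧ lam i ≠ 1))
      (Finset.univ.filter (fun i => lam i = 1)) := by
    rw [Finset.disjoint_filter]
    intro i _ h
    exact h.2
  rw [h2, Finset.sum_union h3]
  congr 1
  rw [Finset.sum_congr rfl (fun i hi => by rw [(Finset.mem_filter.mp hi).2, one_pow])]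
  simp

theorem alt_comm_even (p q : ℝ) (n : ℕ) (he : Even n) : alt p q n = alt q p n := by
  obtain ⟨m, rfl⟩ := he
  rw [alt_real', alt_real']
  unfold wt
  have e1 : (m + m + 1) / 2 = m := by omega
  have e2 : (m + m) / 2 = m := by omega
  rw [e1, e2]
  ring

theorem card_split {X : Type*} [Fintype X] [DecidableEq X] (lam : X → ℝ) :
    ((Finset.univ.filter (fun i => lam i ≠ 0)).card : ℝ) =
      ((Finset.univ.filter (fun i => lam i ≠ 0 ∧ lam i ≠ 1)).card : ℝ) +
        ((Finset.univ.filter (fun i => lam i = 1)).card : ℝ) := by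
  have h2 : Finset.univ.filter (fun i => lam i ≠ 0) =
      Finset.univ.filter (fun i => lam i ≠ 0 ∧ lam i ≠ 1) ∪ Finset.univ.filter (fun i => lam i = 1) := by
    ext i
    simp only [Finset.mem_filter, Finset.mem_univ, true_and, Finset.mem_union]
    constructor
    · intro h
      by_cases h1 : lam i = 1
      · right; exact h1
      · left; exact ⟨h, h1⟩
    · rintro (h | h)
      · exact h.1
      · rw [h]; norm_num
  have h3 : Disjoint (Finset.univ.filter (fun i => lam i ≠ 0 ∧ lam i ≠ 1))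
      (Finset.univ.filter (fun i => lam i = 1)) := by
    rw [Finset.disjoint_filter]
    intro i _ h
    exact h.2
  rw [h2, Finset.card_union_of_disjoint h3]
  push_cast
  ring

theorem partB {X : Type*} [Fintype X] [DecidableEq X] [Nonempty X] (n : ℕ) (hn : 2 ≤ n)
    (a b : ℝ) (ha : 2 ≤ a) (hb : 2 ≤ b) (T₁ T₂ : Matrix X X ℝ) (hs₁ : T₁ᵀ = T₁) (hs₂ : T₂ᵀ = T₂)
    (hH : IsHeckePair n a b T₁ T₂)
    (htr : ∀ k, 1 ≤ k → k ≤ n → Matrix.trace (alt T₁ T₂ k) = 0 ∧ Matrix.trace (alt T₂ T₁ k) = 0)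
    (hodd : Odd n → a = b) (j : ℕ) (hj : 0 < j) (hjn : 2 * j < n) :
    ∃ m : ℕ, (m : ℝ) * cfun n a b (tauOf n a b j) = (Fintype.card X : ℝ) := by
  classical
  have ha0 : 0 < a := by linarith
  have hb0 : 0 < b := by linarith
  have ha1 : a + 1 ≠ 0 := by linarith
  have hb1 : b + 1 ≠ 0 := by linarith
  -- the idempotents
  set e₁ : Matrix X X ℝ := (a + 1)⁻¹ • (T₁ + 1) with he₁def
  set e₂ : Matrix X X ℝ := (b + 1)⁻¹ • (T₂ + 1) with he₂def
  have he₁ : e₁ * e₁ = e₁ := idem_of_sq a ha1 T₁ hH.sq₁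
  have he₂ : e₂ * e₂ = e₂ := idem_of_sq b hb1 T₂ hH.sq₂
  have hT₁ : (a + 1) • e₁ - 1 = T₁ := T_of_idem a ha1 T₁
  have hT₂ : (b + 1) • e₂ - 1 = T₂ := T_of_idem b hb1 T₂
  have hes₁ : e₁ᵀ = e₁ := by
    rw [he₁def, Matrix.transpose_smul, Matrix.transpose_add, hs₁, Matrix.transpose_one]
  have hes₂ : e₂ᵀ = e₂ := by
    rw [he₂def, Matrix.transpose_smul, Matrix.transpose_add, hs₂, Matrix.transpose_one]
  have hbrV : alt ((a + 1) • e₁ - 1) ((b + 1) • e₂ - 1) n =
      alt ((b + 1) • e₂ - 1) ((a + 1) • e₁ - 1) n := by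
    rw [hT₁, hT₂]; exact hH.braid
  -- the operator `C`
  set C : Matrix X X ℝ := e₁ * e₂ * e₁ with hCdef
  have hCs : Cᵀ = C := by
    rw [hCdef, Matrix.transpose_mul, Matrix.transpose_mul, hes₁, hes₂, Matrix.mul_assoc]
  have he₁C : e₁ * C = C := by
    rw [hCdef, ← Matrix.mul_assoc, ← Matrix.mul_assoc, he₁]
  have hCe₁ : C * e₁ = C := by
    rw [hCdef, Matrix.mul_assoc, he₁]
  obtain ⟨lam, u, heig, horth, htrace, hpow⟩ := Cfsg.Agent.Helper91.FH.spectral C hCs
  have hu0 : ∀ i, u i ≠ 0 := by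
    intro i h
    have := horth i i
    rw [h] at this
    simp at this
  set S : Finset X := Finset.univ.filter (fun i => lam i ≠ 0 ∧ lam i ≠ 1) with hSdef
  have hmodel : ∀ i ∈ S, IsHeckePair n a b (mod₁ a (lam i)) (mod₂ b) := by
    intro i hi
    rw [hSdef, Finset.mem_filter] at hi
    exact ⟨mod_sq₁ a (lam i), mod_sq₂ b,
      Cfsg.Agent.Helper48.FH.braid_model n a b (lam i) e₁ e₂ he₁ he₂ (u i) (hu0 i) (heig i) hi.2.1 hi.2.2 hbrV⟩
  -- the coefficients of the virtual decomposition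
  set M₁ : ℝ := ((Finset.univ.filter (fun i => lam i = 1)).card : ℝ) with hM₁def
  set sS : ℝ := (S.card : ℝ) with hsSdef
  set x : ℝ := Matrix.trace e₁ - sS - M₁ with hxdef
  set y : ℝ := Matrix.trace e₂ - sS - M₁ with hydef
  set z : ℝ := (Fintype.card X : ℝ) - 2 * sS - M₁ - x - y with hzdef
  set δ : FreeAlgebra ℝ (Fin 2) →ₗ[ℝ] ℝ :=
    trFun e₁ e₂ - ∑ i ∈ S, trFun (E₁ (lam i)) E₂ - M₁ • trFun !![(1 : ℝ)] !![(1 : ℝ)] -
      x • trFun !![(1 : ℝ)] !![(0 : ℝ)] - y • trFun !![(0 : ℝ)] !![(1 : ℝ)] -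
      z • trFun !![(0 : ℝ)] !![(0 : ℝ)] with hδdef
  have hδtr : IsTr δ := by
    rw [hδdef]
    refine IsTr.sub (IsTr.sub (IsTr.sub (IsTr.sub (IsTr.sub (isTr_trFun e₁ e₂ he₁ he₂)
      (isTr_sum S _ (fun i _ => isTr_trFun _ _ (E₁_idem (lam i)) E₂_idem))) ?_) ?_) ?_) ?_
    · exact (isTr_trFun _ _ (one_idem 1 (Or.inr rfl)) (one_idem 1 (Or.inr rfl))).smul M₁
    · exact (isTr_trFun _ _ (one_idem 1 (Or.inr rfl)) (one_idem 0 (Or.inl rfl))).smul x
    · exact (isTr_trFun _ _ (one_idem 0 (Or.inl rfl)) (one_idem 1 (Or.inr rfl))).smul y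
    · exact (isTr_trFun _ _ (one_idem 0 (Or.inl rfl)) (one_idem 0 (Or.inl rfl))).smul z
  have hδapp : ∀ w, δ w = trFun e₁ e₂ w - ∑ i ∈ S, trFun (E₁ (lam i)) E₂ w -
      M₁ * trFun !![(1 : ℝ)] !![(1 : ℝ)] w - x * trFun !![(1 : ℝ)] !![(0 : ℝ)] w -
      y * trFun !![(0 : ℝ)] !![(1 : ℝ)] w - z * trFun !![(0 : ℝ)] !![(0 : ℝ)] w := by
    intro w
    rw [hδdef]
    simp only [LinearMap.sub_apply, LinearMap.smul_apply, LinearMap.sum_apply, smul_eq_mul]
  have hδ : δ = 0 := by
    apply Cfsg.Agent.Helper37.FH.tracial_ext δ hδtr.1 hδtr.2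
    · rw [hδapp]
      simp only [trFun_one, Fintype.card_fin, Nat.cast_one, Finset.sum_const, nsmul_eq_mul]
      rw [hzdef]
      simp only [Fintype.card_fin, Nat.cast_ofNat]
      ring
    · intro i
      fin_cases i
      · show δ (FreeAlgebra.ι ℝ 0) = 0
        rw [hδapp]
        simp only [trFun_gen0, trace_E₁, trace_one_by_one, Finset.sum_const, nsmul_eq_mul]
        rw [hxdef]
        ring
      · show δ (FreeAlgebra.ι ℝ 1) = 0
        rw [hδapp]
        simp only [trFun_gen1, trace_E₂, trace_one_by_one, Finset.sum_const, nsmul_eq_mul]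
        rw [hydef]
        ring
    · intro k hk
      rw [hδapp]
      simp only [trFun_pow, one_by_one_mul_pow, trace_one_by_one]
      rw [trace_pow_C e₁ e₂ he₁ k hk, hpow k, sum_pow_split lam k hk,
        Finset.sum_congr rfl (fun i _ => trace_E₁E₂_pow (lam i) k hk)]
      have hk0 : k ≠ 0 := by omega
      simp only [hk0, ne_eq, not_false_eq_true, zero_pow, mul_zero, sub_zero, mul_one, one_pow]
      rw [hSdef, hM₁def]
      ring
  -- the virtual decomposition of the trace function of `V`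
  have oneT : ∀ (c p : ℝ), (c + 1) • (!![p] : Matrix (Fin 1) (Fin 1) ℝ) - 1 = !![(c + 1) * p - 1] :=
    one_by_one_T
  have hX : ∀ k, Matrix.trace (alt T₁ T₂ k) =
      ∑ i ∈ S, Matrix.trace (alt (mod₁ a (lam i)) (mod₂ b) k) + M₁ * alt a b k +
        x * alt a (-1) k + y * alt (-1) b k + z * alt (-1) (-1) k := by
    intro k
    have h := hδapp (altFA a b k)
    rw [hδ, LinearMap.zero_apply] at h
    simp only [trFun_altFA, hT₁, hT₂, mod₁_eq, mod₂_eq, oneT, trace_alt_one_by_one] at h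
    norm_num at h
    linarith
  have hY : ∀ k, Matrix.trace (alt T₂ T₁ k) =
      ∑ i ∈ S, Matrix.trace (alt (mod₂ b) (mod₁ a (lam i)) k) + M₁ * alt b a k +
        x * alt (-1) a k + y * alt b (-1) k + z * alt (-1) (-1) k := by
    intro k
    have h := hδapp (altFA' a b k)
    rw [hδ, LinearMap.zero_apply] at h
    simp only [trFun_altFA', hT₁, hT₂, mod₁_eq, mod₂_eq, oneT, trace_alt_one_by_one] at h
    norm_num at h
    linarith
  -- the target model
  obtain ⟨hl0, hl1⟩ := lamOf_ne n a b ha hb j hj hjn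
  set lam₀ : ℝ := lamOf a b (tauOf n a b j) with hlam₀
  have hs : IsHeckePair n a b (mod₁ a lam₀) (mod₂ b) :=
    ⟨mod_sq₁ a lam₀, mod_sq₂ b,
      (Cfsg.Agent.Helper22.FHBR.braid_iff n hn a b lam₀ ha0 hb0 hodd hl0 hl1).2 ⟨j, hj, hjn, rfl⟩⟩
  set g₁ : ℕ → ℝ := fun k => Matrix.trace (alt (mod₁ a lam₀) (mod₂ b) k) with hg₁
  set g₂ : ℕ → ℝ := fun k => Matrix.trace (alt (mod₂ b) (mod₁ a lam₀) k) with hg₂
  -- the left hand side
  have hL : pairF n a b (fun k => Matrix.trace (alt T₁ T₂ k)) (fun k => Matrix.trace (alt T₂ T₁ k))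
      g₁ g₂ = 2 * (Fintype.card X : ℝ) := by
    rw [pairF_delta n a b _ _ g₁ g₂ (fun k h1 h2 => (htr k h1 h2).1)
      (fun k h1 h2 => (htr k h1 (by omega)).2)]
    simp only [hg₁, alt_zero, Matrix.trace_one, Fintype.card_fin]
    push_cast
    ring
  -- the right hand side
  have hR : pairF n a b (fun k => Matrix.trace (alt T₁ T₂ k)) (fun k => Matrix.trace (alt T₂ T₁ k))
      g₁ g₂ =
      ∑ i ∈ S, pair n a b (mod₁ a (lam i)) (mod₂ b) (mod₁ a lam₀) (mod₂ b) +
        M₁ * pair n a b !![a] !![b] (mod₁ a lam₀) (mod₂ b) +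
        x * pair n a b !![a] !![(-1 : ℝ)] (mod₁ a lam₀) (mod₂ b) +
        y * pair n a b !![(-1 : ℝ)] !![b] (mod₁ a lam₀) (mod₂ b) +
        z * pair n a b !![(-1 : ℝ)] !![(-1 : ℝ)] (mod₁ a lam₀) (mod₂ b) := by
    rw [funext hX, funext hY, pairF_comb]
    simp only [pair, trace_alt_one_by_one]
    rfl
  -- orthogonality with the one-dimensional pairs
  have hone : ∀ p q : ℝ, (p = a ∨ p = -1) → (q = b ∨ q = -1) → alt p q n = alt q p n →
      pair n a b !![p] !![q] (mod₁ a lam₀) (mod₂ b) = 0 := by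
    intro p q hp hq hpq
    rw [pair_symm]
    exact Cfsg.Agent.Helper81.FH.pair_eq_zero n (by omega) a b ha0.ne' hb0.ne' _ _ _ _ hs (hecke_one n a b p q hp hq hpq)
      (fun Y h1 h2 => Cfsg.Agent.Helper53.FH.no_intertwiner_one a b lam₀ p q ha1 hb1 hl0 hl1 Y h1 h2)
  have hab : pair n a b !![a] !![b] (mod₁ a lam₀) (mod₂ b) = 0 := by
    apply hone a b (Or.inl rfl) (Or.inl rfl)
    rcases Nat.even_or_odd n with he | ho
    · exact alt_comm_even a b n he
    · rw [hodd ho]
  have hmm : pair n a b !![(-1 : ℝ)] !![(-1 : ℝ)] (mod₁ a lam₀) (mod₂ b) = 0 :=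
    hone (-1) (-1) (Or.inr rfl) (Or.inr rfl) rfl
  -- for odd `n` the mixed one-dimensional pieces do not occur
  have hx0 : Odd n → x = 0 ∧ y = 0 := by
    intro ho
    have hterm : ∀ i, u i ⬝ᵥ e₁.mulVec (u i) = if lam i ≠ 0 then 1 else 0 := by
      intro i
      by_cases h0 : lam i = 0
      · rw [if_neg (not_not.mpr h0)]
        have hw : e₁.mulVec (u i) = 0 := by
          apply no_joint_odd n ho a b ha0 e₁ e₂ hes₁ hes₂ he₂ hbrV
          · rw [Matrix.mulVec_mulVec, he₁]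
          · rw [Matrix.mulVec_mulVec, ← hCdef, hCe₁, heig i, h0, zero_smul]
        rw [hw]
        simp
      · rw [if_pos h0]
        have hw : e₁.mulVec (u i) = u i := by
          have h1 : e₁.mulVec (C.mulVec (u i)) = C.mulVec (u i) := by
            rw [Matrix.mulVec_mulVec, he₁C]
          rw [heig i, Matrix.mulVec_smul] at h1
          exact smul_right_injective _ h0 h1
        rw [hw, horth i i, if_pos rfl]
    have hte : Matrix.trace e₁ = sS + M₁ := by
      rw [htrace e₁, Finset.sum_congr rfl (fun i _ => hterm i), Finset.sum_ite]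
      simp only [Finset.sum_const, nsmul_eq_mul, mul_one, mul_zero, add_zero]
      rw [card_split lam]
    have htT₁ : Matrix.trace T₁ = 0 := by
      have := (htr 1 le_rfl (by omega)).1
      simpa [alt_succ] using this
    have htT₂ : Matrix.trace T₂ = 0 := by
      have := (htr 1 le_rfl (by omega)).2
      simpa [alt_succ] using this
    have hte₂ : Matrix.trace e₂ = Matrix.trace e₁ := by
      rw [he₁def, he₂def, Matrix.trace_smul, Matrix.trace_smul, Matrix.trace_add, Matrix.trace_add,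
        htT₁, htT₂, hodd ho]
    constructor
    · rw [hxdef, hte]; ring
    · rw [hydef, hte₂, hte]; ring
  have hxterm : x * pair n a b !![a] !![(-1 : ℝ)] (mod₁ a lam₀) (mod₂ b) = 0 := by
    rcases Nat.even_or_odd n with he | ho
    · rw [hone a (-1) (Or.inl rfl) (Or.inr rfl) (alt_comm_even a (-1) n he), mul_zero]
    · rw [(hx0 ho).1, zero_mul]
  have hyterm : y * pair n a b !![(-1 : ℝ)] !![b] (mod₁ a lam₀) (mod₂ b) = 0 := by
    rcases Nat.even_or_odd n with he | ho
    · rw [hone (-1) b (Or.inr rfl) (Or.inl rfl) (alt_comm_even (-1) b n he), mul_zero]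
    · rw [(hx0 ho).2, zero_mul]
  -- the two-dimensional pieces
  have hpairS : ∀ i ∈ S, pair n a b (mod₁ a (lam i)) (mod₂ b) (mod₁ a lam₀) (mod₂ b) =
      if lam i = lam₀ then 2 * cfun n a b (tauOf n a b j) else 0 := by
    intro i hi
    by_cases h : lam i = lam₀
    · rw [if_pos h, h]
      exact Cfsg.Agent.Helper37.FH.pair_self n hn a b ha0 hb0 hodd j hj hjn
    · rw [if_neg h]
      have hi' := (Finset.mem_filter.mp hi).2
      exact Cfsg.Agent.Helper81.FH.pair_eq_zero n (by omega) a b ha0.ne' hb0.ne' _ _ _ _ (hmodel i hi) hs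
        (fun Y h1 h2 => Cfsg.Agent.Helper53.FH.no_intertwiner_two a b (lam i) lam₀ ha1 hb1 hi'.1 hi'.2 hl0 hl1 h Y h1 h2)
  refine ⟨(S.filter (fun i => lam i = lam₀)).card, ?_⟩
  have hfin : 2 * (Fintype.card X : ℝ) =
      2 * (((S.filter (fun i => lam i = lam₀)).card : ℝ) * cfun n a b (tauOf n a b j)) := by
    rw [← hL, hR, hab, hmm, hxterm, hyterm, Finset.sum_congr rfl hpairS, Finset.sum_ite]
    simp only [Finset.sum_const, nsmul_eq_mul, mul_zero, add_zero]
    ring
  linarith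

end Cfsg.Agent.Helper19.FH
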